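import Groth.Agent.TwConst.EtaleNbhd
import Mathlib.AlgebraicGeometry.Morphisms.QuasiFinite
import Mathlib.AlgebraicGeometry.PullbackCarrier

/-!
# Étale localisation of a quasi-finite point
-/

set_option autoImplicit false
set_option backward.isDefEq.respectTransparency false

universe u

open CategoryTheory CategoryTheory.Limits AlgebraicGeometry

namespace Groth.Agent.SmallPicks

theorem exists_section_residue {X S U : Scheme.{u}} (f : X ⟶ S) (g : U ⟶ S) (x : X) (u : U) (h : g u = f x)
    [IsIso (g.residueFieldMap u)] :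
    ∃ v : ↥(pullback f g), pullback.fst f g v = x ∧ pullback.snd f g v = u ∧
      Function.Surjective ((pullback.fst f g).residueFieldMap v) ∧
      ∀ w : ↥(pullback f g), pullback.fst f g w = x → pullback.snd f g w = u → w = v := by
  let ψ : Spec (X.residueField x) ⟶ Spec (U.residueField u) :=
    Spec.map (inv (g.residueFieldMap u) ≫ (S.residueFieldCongr h).hom ≫ f.residueFieldMap x)
  have hw : X.fromSpecResidueField x ≫ f = (ψ ≫ U.fromSpecResidueField u) ≫ g := by
    rw [Category.assoc, ← Scheme.Hom.SpecMap_residueFieldMap_fromSpecResidueField g u]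
    simp only [ψ, Spec.map_comp, Category.assoc]
    rw [← Category.assoc (Spec.map (inv _)), ← Spec.map_comp, IsIso.hom_inv_id, Spec.map_id,
      Category.id_comp, Scheme.residueFieldCongr_fromSpecResidueField,
      Scheme.Hom.SpecMap_residueFieldMap_fromSpecResidueField]
  let s := pullback.lift (X.fromSpecResidueField x) (ψ ≫ U.fromSpecResidueField u) hw
  let pt := IsLocalRing.closedPoint (X.residueField x)
  have hfst : pullback.fst f g (s pt) = x := by
    rw [← Scheme.Hom.comp_apply, pullback.lift_fst, Scheme.fromSpecResidueField_apply]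
  have hsnd : pullback.snd f g (s pt) = u := by
    rw [← Scheme.Hom.comp_apply, pullback.lift_snd, Scheme.Hom.comp_apply, Scheme.fromSpecResidueField_apply]
  -- every point over `(x, u)` factors through `s`
  have key : ∀ (w : ↥(pullback f g)), pullback.fst f g w = x → pullback.snd f g w = u →
      ∃ a : X.residueField x ⟶ (pullback f g).residueField w,
        Spec.map a ≫ s = (pullback f g).fromSpecResidueField w ∧
        (Function.Surjective a → Function.Surjective ((pullback.fst f g).residueFieldMap w)) := by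
    intro w h1 h2
    let α := Spec.map ((X.residueFieldCongr h1.symm).hom ≫ (pullback.fst f g).residueFieldMap w)
    let β := Spec.map ((U.residueFieldCongr h2.symm).hom ≫ (pullback.snd f g).residueFieldMap w)
    have hα : α ≫ X.fromSpecResidueField x = (pullback f g).fromSpecResidueField w ≫ pullback.fst f g := by
      simp only [α, Spec.map_comp, Category.assoc]
      rw [Scheme.residueFieldCongr_fromSpecResidueField,
        Scheme.Hom.SpecMap_residueFieldMap_fromSpecResidueField]
    have hβ : β ≫ U.fromSpecResidueField u = (pullback f g).fromSpecResidueField w ≫ pullback.snd f g := by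
      simp only [β, Spec.map_comp, Category.assoc]
      rw [Scheme.residueFieldCongr_fromSpecResidueField,
        Scheme.Hom.SpecMap_residueFieldMap_fromSpecResidueField]
    haveI : Mono (S.fromSpecResidueField (g u)) := inferInstance
    have hαβ : α ≫ ψ = β := by
      rw [← cancel_mono (Spec.map (g.residueFieldMap u)), ← cancel_mono (S.fromSpecResidueField (g u))]
      simp only [Category.assoc]
      rw [Scheme.Hom.SpecMap_residueFieldMap_fromSpecResidueField, ← Category.assoc ψ, ← hw,
        reassoc_of% hα, reassoc_of% hβ, pullback.condition]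
    refine ⟨(X.residueFieldCongr h1.symm).hom ≫ (pullback.fst f g).residueFieldMap w,
      pullback.hom_ext ?_ ?_, fun h z => ?_⟩
    · rw [Category.assoc, pullback.lift_fst, hα]
    · rw [Category.assoc, pullback.lift_snd, reassoc_of% hαβ, hβ]
    obtain ⟨c, rfl⟩ := h z
    exact ⟨(X.residueFieldCongr h1.symm).hom c, rfl⟩
  refine ⟨s pt, hfst, hsnd, ?_, fun w h1 h2 => ?_⟩
  · obtain ⟨a, ha, h⟩ := key _ hfst hsnd
    let s' : Spec (CommRingCat.of (X.residueField x)) ⟶ pullback f g := s
    obtain ⟨φ, hφ⟩ : ∃ φ : (pullback f g).residueField (s pt) ⟶ X.residueField x,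
        Spec.map φ ≫ (pullback f g).fromSpecResidueField (s pt) = s :=
      ⟨_, Scheme.descResidueField_stalkClosedPointTo_fromSpecResidueField (X.residueField x) (pullback f g) s'⟩
    have h4 : φ ≫ a = 𝟙 _ := Spec.map_injective (by
      rw [← cancel_mono ((pullback f g).fromSpecResidueField _), Spec.map_comp, Spec.map_id, Category.assoc,
        Category.id_comp]
      exact (congrArg (Spec.map a ≫ ·) hφ).trans ha)
    exact h fun z => ⟨φ z, congr($h4 z)⟩
  · obtain ⟨α, hα, -⟩ := key w h1 h2
    have h3 : (pullback f g).fromSpecResidueField w (IsLocalRing.closedPoint _) = w :=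
      Scheme.fromSpecResidueField_apply _ _
    rw [← h3, ← hα, Scheme.Hom.comp_apply]
    exact congrArg s (Subsingleton.elim (α := PrimeSpectrum (X.residueField x)) _ _)

theorem exists_etale_loc {X S : Scheme.{u}} (f : X ⟶ S) [LocallyOfFiniteType f] [IsSeparated f] (x : X)
    (hx : f.QuasiFiniteAt x) :
    ∃ (U : Scheme.{u}) (g : U ⟶ S) (u : U), Etale g ∧ g u = f x ∧ Function.Surjective (g.residueFieldMap u) ∧
      ∃ (V : (pullback f g).Opens) (v : ↑(pullback f g)), IsClopen (V : Set ↑(pullback f g)) ∧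
        IsFinite (V.ι ≫ pullback.snd f g) ∧ v ∈ V ∧ pullback.fst f g v = x ∧ pullback.snd f g v = u ∧
        Function.Surjective ((pullback.fst f g).residueFieldMap v) ∧
        (∀ w : ↑(pullback f g), pullback.snd f g w = u → (w ∈ V ∨ pullback.fst f g w = x) → w = v) := by
  have h1 := (f.fiberHomeo (f x)).isOpen_image.2 (Scheme.Hom.quasiFiniteAt_iff_isOpen_singleton_asFiber.1 hx)
  rw [Set.image_singleton, Scheme.Hom.asFiber, Homeomorph.apply_symm_apply] at h1
  obtain ⟨W₀, hW₀, hW₁⟩ := isOpen_induced_iff.1 h1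
  let W : X.Opens := ⟨W₀, hW₀⟩
  have hW : ∀ z : X, f z = f x → z ∈ W → z = x := fun z hz hzW =>
    congrArg Subtype.val ((Set.ext_iff.1 hW₁ (⟨z, hz⟩ : f ⁻¹' {f x})).1 hzW)
  have hxW : x ∈ W := (Set.ext_iff.1 hW₁ ⟨x, rfl⟩).2 rfl
  have hfin : ((W.ι ≫ f) ⁻¹' {f x}).Finite := Set.Subsingleton.finite fun a ha b hb =>
    W.ι.isOpenEmbedding.injective ((hW (W.ι a) (by rw [← Scheme.Hom.comp_apply]; exact ha) a.2).trans
      (hW (W.ι b) (by rw [← Scheme.Hom.comp_apply]; exact hb) b.2).symm)
  obtain ⟨U, g, u, hg, hu, hiso, V', hV', hfinV, hall⟩ :=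
    TwConst.exists_nbhd_finite_fibre (W.ι ≫ f) (f x) hfin
  haveI := hfinV
  haveI := hiso
  obtain ⟨v, hv1, hv2, hv3, hv4⟩ := exists_section_residue f g x u hu
  let m : pullback (W.ι ≫ f) g ⟶ pullback f g :=
    pullback.map _ _ _ _ W.ι (𝟙 U) (𝟙 S) (by simp) (by simp)
  have hm : IsPullback (pullback.fst (W.ι ≫ f) g) m W.ι (pullback.fst f g) := by
    refine IsPullback.of_bot ?_ (pullback.lift_fst _ _ _).symm (IsPullback.of_hasPullback f g)
    rw [show m ≫ pullback.snd f g = pullback.snd (W.ι ≫ f) g from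
      (pullback.lift_snd _ _ _).trans (Category.comp_id _)]
    exact IsPullback.of_hasPullback _ _
  haveI : IsOpenImmersion m := MorphismProperty.of_isPullback (P := @IsOpenImmersion) hm inferInstance
  have hfin2 : IsFinite ((V'.ι ≫ m) ≫ pullback.snd f g) := by
    rw [Category.assoc, show m ≫ pullback.snd f g = pullback.snd (W.ι ≫ f) g from
      (pullback.lift_snd _ _ _).trans (Category.comp_id _)]
    exact hfinV
  haveI : IsFinite (V'.ι ≫ m) := MorphismProperty.of_postcomp (W := @IsFinite) (W' := @IsSeparated) _ _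
    (MorphismProperty.pullback_snd (P := @IsSeparated) f g ‹_›) hfin2
  let V := (V'.ι ≫ m).opensRange
  have hcl : IsClosed (V : Set ↥(pullback f g)) := (V'.ι ≫ m).isClosedMap.isClosed_range
  have hVι : IsFinite (V.ι ≫ pullback.snd f g) := by
    have h2 := hfin2
    rw [← Scheme.Hom.isoOpensRange_hom_ι (V'.ι ≫ m), Category.assoc,
      MorphismProperty.cancel_left_of_respectsIso (P := @IsFinite)] at h2
    exact h2
  have hmem : ∀ w : ↥(pullback f g), w ∈ V → pullback.snd f g w = u → pullback.fst f g w = x := by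
    rintro _ ⟨z, rfl⟩ hz
    have h2 : pullback.fst f g ((V'.ι ≫ m) z) = W.ι (pullback.fst (W.ι ≫ f) g (V'.ι z)) := by
      rw [Scheme.Hom.comp_apply, ← Scheme.Hom.comp_apply, ← Scheme.Hom.comp_apply,
        show m ≫ pullback.fst f g = pullback.fst (W.ι ≫ f) g ≫ W.ι from pullback.lift_fst _ _ _]
      rfl
    rw [h2]
    refine hW _ ?_ (Subtype.coe_prop _)
    rw [← h2, ← Scheme.Hom.comp_apply, pullback.condition, Scheme.Hom.comp_apply, hz, hu]
  refine ⟨U, g, u, hg, hu, ((ConcreteCategory.isIso_iff_bijective _).1 hiso).2, V, v, ⟨hcl, V.2⟩, hVι, ?_,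
    hv1, hv2, hv3, fun w hw h => hv4 w (h.elim (fun h => hmem w h hw) id) hw⟩
  obtain ⟨z, hz1, hz2⟩ := Scheme.Pullback.exists_preimage_pullback (f := W.ι ≫ f) (g := g)
    (⟨x, hxW⟩ : W.toScheme) u (by rw [hu, Scheme.Hom.comp_apply]; rfl)
  obtain ⟨z', rfl⟩ : z ∈ Set.range V'.ι := by
    rw [Scheme.Opens.range_ι]; exact hall z hz2
  have h2 : pullback.fst f g ((V'.ι ≫ m) z') = x := by
    rw [Scheme.Hom.comp_apply, ← Scheme.Hom.comp_apply m,
      show m ≫ pullback.fst f g = pullback.fst (W.ι ≫ f) g ≫ W.ι from pullback.lift_fst _ _ _,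
      Scheme.Hom.comp_apply, hz1]
    rfl
  have h3 : pullback.snd f g ((V'.ι ≫ m) z') = u := by
    rw [Scheme.Hom.comp_apply, ← Scheme.Hom.comp_apply m,
      show m ≫ pullback.snd f g = pullback.snd (W.ι ≫ f) g from (pullback.lift_snd _ _ _).trans (Category.comp_id _),
      hz2]
  rw [← hv4 _ h2 h3]
  exact ⟨z', rfl⟩

end Groth.Agent.SmallPicks
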