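import Groth.Agent.BlowUpLib.Cartier
import Groth.Prelude.Def_MoreMor

/-!
# The universal property of the first order infinitesimal neighbourhood
-/

set_option autoImplicit false
set_option backward.isDefEq.respectTransparency false

universe u

open CategoryTheory AlgebraicGeometry

namespace Groth.Agent.SmallPicks

theorem existsUnique_lift_sq {X T T' : Scheme.{u}} (I : X.IdealSheafData) (t : T ⟶ T')
    (ht : MoreMor.IsFirstOrderThickening t) (a : T ⟶ I.subscheme) (b : T' ⟶ X)
    (w : a ≫ I.subschemeι = t ≫ b) : ∃! a' : T' ⟶ (I ^ 2).subscheme, a' ≫ (I ^ 2).subschemeι = b := by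
  have h1 : I.comap b ≤ t.ker := by
    rw [← Scheme.IdealSheafData.le_map_iff_comap_le, Scheme.IdealSheafData.map_ker, ← w]
    exact (Scheme.IdealSheafData.ker_subschemeι I).ge.trans (Scheme.Hom.le_ker_comp _ _)
  have h2 : (I ^ 2).comap b ≤ ⊥ := by
    rw [pow_two, BlowUpLib.comap_mul, ← ht.2]
    intro U
    rw [Scheme.IdealSheafData.ideal_mul, Scheme.IdealSheafData.ideal_mul, Pi.mul_apply, Pi.mul_apply]
    exact Ideal.mul_mono (h1 U) (h1 U)
  have h3 : (I ^ 2).subschemeι.ker ≤ b.ker := by
    rw [Scheme.IdealSheafData.ker_subschemeι, ← Scheme.IdealSheafData.map_bot]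
    exact Scheme.IdealSheafData.le_map_iff_comap_le.2 h2
  exact ⟨IsClosedImmersion.lift _ b h3, IsClosedImmersion.lift_fac _ _ _, fun g hg => by
    rw [← cancel_mono (I ^ 2).subschemeι]; exact hg.trans (IsClosedImmersion.lift_fac _ _ _).symm⟩

end Groth.Agent.SmallPicks
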